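import Mathlib

set_option autoImplicit false
universe u v

open scoped TensorProduct

namespace Groth.Agent.DiagParityLib

theorem parity {R : Type*} [CommRing R] (τ : R →+* R) (I : Ideal R)
    (h0 : ∀ x, τ x - x ∈ I) (h1 : ∀ x ∈ I, τ x + x ∈ I ^ 2) :
    ∀ (s : ℕ), ∀ x ∈ I ^ s, τ x - (-1) ^ s * x ∈ I ^ (s + 1) := by
  intro s
  induction s with
  | zero => intro x _; simpa using h0 x
  | succ s ih =>
    intro x hx
    rw [pow_succ] at hx
    refine Submodule.mul_induction_on hx (fun a ha b hb => ?_) (fun a b ha hb => ?_)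
    · have hA : a ∈ I ^ s := ha
      have hτb : τ b ∈ I := by
        simpa using I.add_mem (h0 b) hb
      have e : τ (a * b) - (-1) ^ (s + 1) * (a * b) =
          (τ a - (-1) ^ s * a) * τ b + (-1) ^ s * (a * (τ b + b)) := by
        rw [map_mul]; ring
      rw [e]
      refine (I ^ (s + 1 + 1)).add_mem ?_ (Ideal.mul_mem_left _ _ ?_)
      · rw [pow_succ]; exact Ideal.mul_mem_mul (ih a hA) hτb
      · rw [show s + 1 + 1 = s + 2 by ring, pow_add]; exact Ideal.mul_mem_mul hA (h1 b hb)
    · have e : τ (a + b) - (-1) ^ (s + 1) * (a + b) =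
          (τ a - (-1) ^ (s + 1) * a) + (τ b - (-1) ^ (s + 1) * b) := by rw [map_add]; ring
      rw [e]
      exact Ideal.add_mem _ ha hb

variable {k : Type u} [Field k] {A : Type v} [CommRing A] [Algebra k A] {n : ℕ}

noncomputable def perm (σ : Equiv.Perm (Fin n)) : (⨂[k] _ : Fin n, A) →ₐ[k] (⨂[k] _ : Fin n, A) :=
  AlgHom.ofLinearMap (PiTensorProduct.reindex k (fun _ : Fin n => A) σ).toLinearMap
    (show PiTensorProduct.reindex k (fun _ : Fin n => A) σ (PiTensorProduct.tprod k (1 : Fin n → A)) = _ by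
      rw [PiTensorProduct.reindex_tprod]; rfl)
    (LinearMap.map_mul_iff _ |>.mpr (by
      refine PiTensorProduct.ext (MultilinearMap.ext fun x => PiTensorProduct.ext (MultilinearMap.ext fun y => ?_))
      simp [PiTensorProduct.reindex_tprod, Pi.mul_def]))

theorem perm_single (σ : Equiv.Perm (Fin n)) (l : Fin n) (a : A) :
    perm (k := k) σ (PiTensorProduct.singleAlgHom (R := k) (A := fun _ : Fin n => A) l a) =
      PiTensorProduct.singleAlgHom (R := k) (A := fun _ : Fin n => A) (σ l) a := by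
  show PiTensorProduct.reindex k (fun _ : Fin n => A) σ (PiTensorProduct.tprod k (Pi.mulSingle l a)) =
    PiTensorProduct.tprod k (Pi.mulSingle (σ l) a)
  rw [PiTensorProduct.reindex_tprod]
  congr 1
  funext i
  rw [Pi.mulSingle_apply, Pi.mulSingle_apply]
  simp [Equiv.symm_apply_eq]

theorem invariant_odd (hchar : (2 : k) ≠ 0)
    (I : Fin n × Fin n → Ideal (⨂[k] _ : Fin n, A))
    (hI : ∀ p, I p = Ideal.span (Set.range fun a : A =>
        PiTensorProduct.singleAlgHom (R := k) (A := fun _ : Fin n => A) p.1 a -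
        PiTensorProduct.singleAlgHom (R := k) (A := fun _ : Fin n => A) p.2 a))
    (p : Fin n × Fin n) (m : ℕ) (hm : 1 ≤ m) (x : ⨂[k] _ : Fin n, A)
    (hx : ∀ σ : Equiv.Perm (Fin n), PiTensorProduct.reindex k (fun _ : Fin n => A) σ x = x)
    (hmem : x ∈ (I p) ^ (2 * m - 1)) : x ∈ (I p) ^ (2 * m) := by
  classical
  obtain ⟨i, j⟩ := p
  let τ := perm (k := k) (A := A) (Equiv.swap i j)
  have hgen : ∀ a : A, PiTensorProduct.singleAlgHom (R := k) (A := fun _ : Fin n => A) i a -
        PiTensorProduct.singleAlgHom (R := k) (A := fun _ : Fin n => A) j a ∈ I (i, j) := by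
    intro a; rw [hI]; exact Ideal.subset_span ⟨a, rfl⟩
  have h0 : ∀ y, τ y - y ∈ I (i, j) := by
    have he : (Ideal.Quotient.mkₐ k (I (i, j))).comp τ = Ideal.Quotient.mkₐ k (I (i, j)) := by
      refine PiTensorProduct.algHom_ext fun l => AlgHom.ext fun a => ?_
      simp only [AlgHom.comp_apply, Ideal.Quotient.mkₐ_eq_mk, τ, perm_single, Ideal.Quotient.eq]
      rcases eq_or_ne l i with rfl | hli
      · rw [Equiv.swap_apply_left, ← neg_sub]; exact (I _).neg_mem (hgen a)
      · rcases eq_or_ne l j with rfl | hlj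
        · rw [Equiv.swap_apply_right]; exact hgen a
        · rw [Equiv.swap_apply_of_ne_of_ne hli hlj, sub_self]; exact (I _).zero_mem
    intro y
    exact Ideal.Quotient.eq.mp (AlgHom.congr_fun he y)
  have h1 : ∀ y ∈ I (i, j), τ y + y ∈ I (i, j) ^ 2 := by
    intro y hy
    rw [hI] at hy
    refine Submodule.span_induction (fun z hz => ?_) (by simp) (fun a b _ _ ha hb => ?_) (fun c b hb' hb => ?_) hy
    · obtain ⟨a, rfl⟩ := hz
      simp only [τ, map_sub, perm_single, Equiv.swap_apply_left, Equiv.swap_apply_right]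
      simp
    · rw [map_add, add_add_add_comm]; exact Ideal.add_mem _ ha hb
    · rw [smul_eq_mul, map_mul, show τ c * τ b + c * b = τ c * (τ b + b) - (τ c - c) * b by ring]
      refine Ideal.sub_mem _ (Ideal.mul_mem_left _ _ hb) ?_
      rw [pow_two]
      exact Ideal.mul_mem_mul (h0 c) (by rw [hI]; exact hb')
  have hp := parity τ.toRingHom (I (i, j)) h0 h1 (2 * m - 1) x hmem
  have hτ : τ x = x := hx (Equiv.swap i j)
  rw [show (2 * m - 1) + 1 = 2 * m by omega, AlgHom.toRingHom_eq_coe, RingHom.coe_coe, hτ,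
    Odd.neg_one_pow ⟨m - 1, by omega⟩, neg_one_mul, sub_neg_eq_add] at hp
  have h2 : IsUnit (2 : ⨂[k] _ : Fin n, A) := by
    have := (IsUnit.mk0 _ hchar).map (algebraMap k (⨂[k] _ : Fin n, A))
    rwa [map_ofNat] at this
  rw [← two_mul] at hp
  exact (Ideal.unit_mul_mem_iff_mem _ h2).mp hp

end Groth.Agent.DiagParityLib
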