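import Groth.Agent.DiagParityLib.Sym
import Groth.Agent.CommAlgDim.Regular
import Groth.Agent.CohenLib.RegularField

/-! The diagonal of a smooth algebra over a field is locally generated by Koszul-exact families. -/

set_option autoImplicit false
set_option linter.style.haveILetI false
universe u v

open scoped TensorProduct
open RingTheory.Sequence

namespace Groth.Agent.DiagParityLib

theorem koszulExact_of_isWeaklyRegular {R : Type u} [CommRing R] (rs : List R) (h : IsWeaklyRegular R rs) :
    KoszulExact (fun i : Fin rs.length => rs.get i) := by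
  refine koszulExact_of_regular _ fun i a ha => ?_
  have hset : (fun i : Fin rs.length => rs.get i) '' {j | j < i} = {y | y ∈ rs.take i} := by
    ext y
    simp only [Set.mem_image, Set.mem_ofPred_eq, List.mem_take_iff_getElem]
    constructor
    · rintro ⟨j, hj, rfl⟩; exact ⟨j, lt_min hj j.isLt, rfl⟩
    · rintro ⟨j, hj, rfl⟩; exact ⟨⟨j, (lt_min_iff.1 hj).2⟩, (lt_min_iff.1 hj).1, rfl⟩
  have hJ : (Ideal.ofList (rs.take i) • ⊤ : Submodule R R) = Ideal.ofList (rs.take i) := by simp
  have he : Ideal.span ((fun i : Fin rs.length => rs.get i) '' {j | j < i}) = Ideal.ofList (rs.take i) := by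
    rw [hset]
  rw [he, ← hJ, ← Submodule.Quotient.mk_eq_zero] at ha ⊢
  refine h.regular_mod_prev i i.isLt ?_
  change rs[i.val] • Submodule.Quotient.mk a = rs[i.val] • (0 : R ⧸ _)
  rw [smul_zero, ← Submodule.Quotient.mk_smul, show rs[i.val] • a = a * rs.get i from mul_comm _ _]
  exact ha

variable (k : Type u) [Field k] (A : Type v) [CommRing A] [Algebra k A]

theorem fg_ker_lmul [Algebra.FiniteType k A] :
    (RingHom.ker (Algebra.TensorProduct.lmul' k (S := A))).FG := by
  have : Algebra.FiniteType k (A ⊗[k] A) := Algebra.FiniteType.trans (R := k) (S := A) inferInstance inferInstance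
  have : IsNoetherianRing (A ⊗[k] A) := Algebra.FiniteType.isNoetherianRing k _
  exact IsNoetherian.noetherian _

theorem diag_koszulExact [Algebra.Smooth k A] (M : Ideal (A ⊗[k] A)) [M.IsMaximal]
    (hM : RingHom.ker (Algebra.TensorProduct.lmul' k (S := A)) ≤ M) :
    ∃ (r : ℕ) (x : Fin r → Localization.AtPrime M),
      Ideal.span (Set.range x) = (RingHom.ker (Algebra.TensorProduct.lmul' k (S := A))).map
        (algebraMap (A ⊗[k] A) (Localization.AtPrime M)) ∧ KoszulExact x := by
  let μ : A ⊗[k] A →+* A := (Algebra.TensorProduct.lmul' k (S := A)).toRingHom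
  have hμ : Function.Surjective μ := fun a => ⟨a ⊗ₜ 1, by simp [μ]⟩
  have hker : RingHom.ker μ ≤ M := hM
  have hcomap : (M.map μ).comap μ = M := by
    rw [Ideal.comap_map_of_surjective μ hμ, sup_eq_left.2 (by rwa [← RingHom.ker_eq_comap_bot])]
  have hq : (M.map μ).IsPrime := Ideal.map_isPrime_of_surjective hμ hker
  let φ := Localization.localRingHom M (M.map μ) μ hcomap.symm
  have hφ : Function.Surjective φ := by
    intro y
    obtain ⟨a, s, rfl⟩ := IsLocalization.exists_mk'_eq (M.map μ).primeCompl y
    obtain ⟨a', rfl⟩ := hμ a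
    obtain ⟨s', hs'⟩ := hμ s
    have hs'M : s' ∈ M.primeCompl := fun h => s.2 (hs' ▸ Ideal.mem_map_of_mem μ h)
    refine ⟨IsLocalization.mk' _ a' ⟨s', hs'M⟩, ?_⟩
    rw [Localization.localRingHom_mk']
    congr 1
    exact Subtype.ext hs'
  have hkerφ : RingHom.ker φ = (RingHom.ker μ).map (algebraMap (A ⊗[k] A) (Localization.AtPrime M)) := by
    refine le_antisymm (fun y hy => ?_) (Ideal.map_le_iff_le_comap.2 fun z hz => ?_)
    · obtain ⟨a, s, rfl⟩ := IsLocalization.exists_mk'_eq M.primeCompl y
      rw [RingHom.mem_ker, Localization.localRingHom_mk', IsLocalization.mk'_eq_zero_iff] at hy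
      obtain ⟨⟨t, ht⟩, hta⟩ := hy
      obtain ⟨t', rfl⟩ := hμ t
      rw [← map_mul] at hta
      refine (IsLocalization.mk'_mem_map_algebraMap_iff M.primeCompl _ _ _ _).2 ⟨t', ?_, hta⟩
      exact fun h => ht (Ideal.mem_map_of_mem μ h)
    · rw [Ideal.mem_comap, RingHom.mem_ker, Localization.localRingHom_to_map, RingHom.mem_ker.1 hz, map_zero]
  have : IsNoetherianRing A := Algebra.FiniteType.isNoetherianRing k A
  have : Algebra.FiniteType k (A ⊗[k] A) := Algebra.FiniteType.trans (R := k) (S := A) inferInstance inferInstance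
  have : IsNoetherianRing (A ⊗[k] A) := Algebra.FiniteType.isNoetherianRing k _
  have : IsRegularRing A := CohenLib.isRegularRing_of_formallySmooth (k := k)
  have : Algebra.FormallySmooth k (A ⊗[k] A) := Algebra.FormallySmooth.comp k A (A ⊗[k] A)
  have : IsRegularRing (A ⊗[k] A) := CohenLib.isRegularRing_of_formallySmooth (k := k)
  have : IsRegularLocalRing (Localization.AtPrime M) := IsRegularRing.isRegularLocalRing_localization M
  have : IsRegularLocalRing (Localization.AtPrime (M.map μ)) := IsRegularRing.isRegularLocalRing_localization _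
  have : IsRegularLocalRing (Localization.AtPrime M ⧸ RingHom.ker φ) :=
    IsRegularLocalRing.of_ringEquiv (RingHom.quotientKerEquivOfSurjective hφ).symm
  obtain ⟨rs, hrs, hJ⟩ := CommAlgDim.exists_isRegular_of_regular_quotient (R := Localization.AtPrime M) (J := RingHom.ker φ)
  refine ⟨rs.length, fun i => rs.get i, ?_, koszulExact_of_isWeaklyRegular rs hrs.toIsWeaklyRegular⟩
  refine Eq.trans ?_ hkerφ
  rw [← hJ, Ideal.ofList]
  exact congrArg _ (Set.ext fun y => List.mem_iff_get.symm)

end Groth.Agent.DiagParityLib
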