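import Mathlib

/-! Symmetric elements of `I ⊗ I` killed by multiplication, for locally regularly embedded `I`. -/

set_option autoImplicit false
set_option linter.style.haveILetI false
universe u

open scoped TensorProduct

namespace Groth.Agent.DiagParityLib

variable {R : Type u} [CommRing R]

/-- The first Koszul homology of the family `x` vanishes. -/
def KoszulExact {n : ℕ} (x : Fin n → R) : Prop :=
  ∀ a : Fin n → R, (∑ i, a i * x i = 0) →
    ∃ z : Fin n → Fin n → R, (∀ i j, z i j = - z j i) ∧ ∀ i, a i = ∑ j, z i j * x j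

theorem koszulExact_of_regular : ∀ {n : ℕ} (x : Fin n → R),
    (∀ (i : Fin n) (a : R), a * x i ∈ Ideal.span (x '' {j | j < i}) → a ∈ Ideal.span (x '' {j | j < i})) →
    KoszulExact x
  | 0, _, _ => fun _ _ => ⟨fun i => i.elim0, fun i => i.elim0, fun i => i.elim0⟩
  | n + 1, x, h => by
    intro a ha
    have hset : x '' {j | j < Fin.last n} = Set.range (fun i : Fin n => x i.castSucc) := by
      ext y; constructor
      · rintro ⟨j, hj, rfl⟩; exact ⟨⟨j.val, hj⟩, rfl⟩
      · rintro ⟨i, rfl⟩; exact ⟨i.castSucc, Fin.castSucc_lt_last i, rfl⟩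
    have ih : KoszulExact (fun i : Fin n => x i.castSucc) := by
      refine koszulExact_of_regular _ fun i b hb => ?_
      have he : x '' {j | j < i.castSucc} = (fun i : Fin n => x i.castSucc) '' {j | j < i} := by
        ext y; constructor
        · rintro ⟨j, hj, rfl⟩; exact ⟨⟨j.val, lt_trans hj i.isLt⟩, hj, rfl⟩
        · rintro ⟨j, hj, rfl⟩; exact ⟨j.castSucc, hj, rfl⟩
      exact he ▸ h i.castSucc b (he.symm ▸ hb)
    rw [Fin.sum_univ_castSucc] at ha
    have hlast : a (Fin.last n) * x (Fin.last n) ∈ Ideal.span (x '' {j | j < Fin.last n}) := by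
      rw [eq_neg_of_add_eq_zero_right ha, hset]
      exact neg_mem (Submodule.sum_mem _ fun i _ => Ideal.mul_mem_left _ _ (Ideal.subset_span ⟨i, rfl⟩))
    have hl := h (Fin.last n) _ hlast
    rw [hset] at hl
    obtain ⟨c, hc⟩ := Ideal.mem_span_range_iff_exists_fun.1 hl
    have hsum : ∑ i : Fin n, (a i.castSucc + c i * x (Fin.last n)) * x i.castSucc = 0 := by
      calc _ = ∑ i : Fin n, a i.castSucc * x i.castSucc
              + (∑ i : Fin n, c i * x i.castSucc) * x (Fin.last n) := by
            rw [Finset.sum_mul, ← Finset.sum_add_distrib]; exact Finset.sum_congr rfl fun i _ => by ring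
        _ = 0 := by rw [hc]; exact ha
    obtain ⟨z, hz, hz'⟩ := ih _ hsum
    refine ⟨Fin.lastCases (Fin.lastCases 0 c) (fun i => Fin.lastCases (- c i) (z i)), ?_, ?_⟩
    · intro i j
      induction i using Fin.lastCases with
      | last => induction j using Fin.lastCases with
        | last => simp
        | cast j => simp
      | cast i => induction j using Fin.lastCases with
        | last => simp
        | cast j => simpa using hz i j
    · intro i
      rw [Fin.sum_univ_castSucc]
      induction i using Fin.lastCases with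
      | last => simpa using hc.symm
      | cast i =>
        simp only [Fin.lastCases_castSucc, Fin.lastCases_last]
        linear_combination hz' i

theorem KoszulExact.unit_mul {n : ℕ} {x y : Fin n → R} (h : KoszulExact x) (u : Fin n → Rˣ)
    (hy : ∀ i, y i = u i * x i) : KoszulExact y := by
  intro a ha
  obtain ⟨z, hz, hz'⟩ := h (fun i => a i * u i) (by simpa only [hy, mul_assoc] using ha)
  refine ⟨fun i j => z i j * ↑(u i)⁻¹ * ↑(u j)⁻¹, fun i j => ?_, fun i => ?_⟩
  · dsimp only; rw [hz i j]; ring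
  · have : a i = (a i * u i) * ↑(u i)⁻¹ := by rw [mul_assoc, Units.mul_inv, mul_one]
    rw [this, hz' i, Finset.sum_mul]
    refine Finset.sum_congr rfl fun j _ => ?_
    rw [hy]
    calc z i j * x j * ↑(u i)⁻¹ = z i j * x j * ↑(u i)⁻¹ * ((↑(u j)⁻¹ : R) * u j) := by
          rw [Units.inv_mul, mul_one]
      _ = _ := by ring

/-- Multiplication `I ⊗ I → I`. -/
noncomputable def mulI (I : Ideal R) : (I ⊗[R] I) →ₗ[R] I :=
  TensorProduct.lift ((LinearMap.lsmul R I).comp I.subtype)

@[simp] theorem mulI_tmul (I : Ideal R) (u v : I) : mulI I (u ⊗ₜ v) = (u : R) • v := rfl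

theorem mulI_comm (I : Ideal R) (t : I ⊗[R] I) : mulI I (TensorProduct.comm R I I t) = mulI I t := by
  induction t with
  | zero => simp
  | tmul u v => exact Subtype.ext (mul_comm _ _)
  | add a b ha hb => simp [map_add, ha, hb]

theorem smul_eq_tmul_mulI (I : Ideal R) {s : R} (hs : s ∈ I) (t : I ⊗[R] I) :
    s • t = (⟨s, hs⟩ : I) ⊗ₜ[R] mulI I t := by
  induction t with
  | zero => simp
  | tmul u v =>
    rw [mulI_tmul, TensorProduct.smul_tmul', ← TensorProduct.smul_tmul]
    congr 1
    exact Subtype.ext (mul_comm _ _)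
  | add a b ha hb => rw [smul_add, map_add, TensorProduct.tmul_add, ha, hb]

variable {n : ℕ}

theorem exists_smul_eq_sum (I : Ideal R) (b : Fin n → I) (s : R)
    (hs : ∀ u : I, ∃ c : Fin n → R, s • u = ∑ i, c i • b i) (t : I ⊗[R] I) :
    ∃ c : Fin n → Fin n → R, (s * s) • t = ∑ i, b i ⊗ₜ[R] ∑ j, c i j • b j := by
  induction t with
  | zero => exact ⟨0, by simp⟩
  | tmul u v =>
    obtain ⟨a, ha⟩ := hs u
    obtain ⟨c, hc⟩ := hs v
    refine ⟨fun i j => a i * c j, ?_⟩
    calc (s * s) • (u ⊗ₜ[R] v) = (s • u) ⊗ₜ[R] (s • v) := by rw [TensorProduct.smul_tmul_smul]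
      _ = _ := by
        rw [ha, TensorProduct.sum_tmul]
        refine Finset.sum_congr rfl fun i _ => ?_
        simp only [TensorProduct.smul_tmul, hc, Finset.smul_sum, smul_smul]
  | add p q hp hq =>
    obtain ⟨c, hc⟩ := hp
    obtain ⟨d, hd⟩ := hq
    exact ⟨c + d, by rw [smul_add, hc, hd, ← Finset.sum_add_distrib]; simp [add_smul, Finset.sum_add_distrib, TensorProduct.tmul_add]⟩

/-- A symmetric tensor in `I ⊗ I` killed by multiplication vanishes, if `I` is locally generated by
Koszul-exact families and `2` is invertible. -/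
theorem eq_zero_of_symm (I : Ideal R) (hI : I.FG) (h2 : IsUnit (2 : R))
    (hK : ∀ (M : Ideal R) [M.IsMaximal], I ≤ M → ∃ (r : ℕ) (x : Fin r → Localization.AtPrime M),
      Ideal.span (Set.range x) = I.map (algebraMap R (Localization.AtPrime M)) ∧ KoszulExact x)
    (t : I ⊗[R] I) (hm : mulI I t = 0) (hs : TensorProduct.comm R I I t = t) : t = 0 := by
  classical
  suffices h : LinearMap.ker (LinearMap.toSpanSingleton R (I ⊗[R] I) t) = ⊤ by
    have h1 : (1 : R) ∈ LinearMap.ker (LinearMap.toSpanSingleton R (I ⊗[R] I) t) := h.symm ▸ Submodule.mem_top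
    rwa [LinearMap.mem_ker, LinearMap.toSpanSingleton_apply, one_smul] at h1
  by_contra hne
  obtain ⟨M, hM, hle⟩ := Ideal.exists_le_maximal _ hne
  have key : ∀ e : R, e • t = 0 → e ∈ M := fun e he => hle (by simpa using he)
  by_cases hIM : I ≤ M
  swap
  · obtain ⟨s, hsI, hsM⟩ := SetLike.not_le_iff_exists.1 hIM
    exact hsM (key s (by rw [smul_eq_tmul_mulI I hsI, hm, TensorProduct.tmul_zero]))
  obtain ⟨r, x, hx, hex⟩ := hK M hIM
  let L := Localization.AtPrime M
  have hxI : ∀ i, ∃ p : I × M.primeCompl, x i * algebraMap R L p.2 = algebraMap R L p.1 := fun i =>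
    (IsLocalization.mem_map_algebraMap_iff M.primeCompl L).1 (hx ▸ Ideal.subset_span ⟨i, rfl⟩)
  choose p hp using hxI
  let b : Fin r → I := fun i => (p i).1
  let u : Fin r → Lˣ := fun i => (IsLocalization.map_units L (p i).2).unit
  have hbx : ∀ i, algebraMap R L (b i) = u i * x i := fun i => by
    rw [IsUnit.unit_spec, mul_comm, hp]
  have hbK : KoszulExact (fun i => algebraMap R L (b i)) := hex.unit_mul u hbx
  have hbspan : (Ideal.span (Set.range fun i => (b i : R))).map (algebraMap R L) =
      I.map (algebraMap R L) := by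
    refine le_antisymm (Ideal.map_mono (Ideal.span_le.2 (by rintro _ ⟨i, rfl⟩; exact (b i).2))) ?_
    rw [← hx, Ideal.span_le]
    rintro _ ⟨i, rfl⟩
    have : x i = ↑(u i)⁻¹ * algebraMap R L (b i) := by rw [hbx, ← mul_assoc, Units.inv_mul, one_mul]
    rw [this]
    exact Ideal.mul_mem_left _ _ (Ideal.mem_map_of_mem _ (Ideal.subset_span ⟨i, rfl⟩))
  obtain ⟨S, hS⟩ := hI
  have hg : ∀ g : {g // g ∈ S}, ∃ m ∈ M.primeCompl, m * (g : R) ∈ Ideal.span (Set.range fun i => (b i : R)) :=
    fun g => (IsLocalization.algebraMap_mem_map_algebraMap_iff M.primeCompl L _ _).1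
      (hbspan ▸ Ideal.mem_map_of_mem _ (hS ▸ Ideal.subset_span g.2))
  choose m hm1 hm2 using hg
  let s := ∏ g, m g
  have hsM : s ∈ M.primeCompl := prod_mem fun g _ => hm1 g
  have hsub : ∀ v : I, ∃ c : Fin r → R, s • v = ∑ i, c i • b i := by
    intro v
    have hv : s * (v : R) ∈ Ideal.span (Set.range fun i => (b i : R)) := by
      have hv' : (v : R) ∈ Submodule.span R (S : Set R) := hS.symm ▸ v.2
      refine Submodule.span_induction (p := fun y _ => s * y ∈ Ideal.span (Set.range fun i => (b i : R)))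
        (fun g hg => ?_) (by simp) (fun _ _ _ _ ha hb => by rw [mul_add]; exact add_mem ha hb)
        (fun c y _ hy => by rw [smul_eq_mul, mul_left_comm]; exact Ideal.mul_mem_left _ _ hy) hv'
      rw [show s = m ⟨g, hg⟩ * ∏ h ∈ Finset.univ.erase ⟨g, hg⟩, m h from
        (Finset.mul_prod_erase _ _ (Finset.mem_univ _)).symm, mul_right_comm]
      exact Ideal.mul_mem_right _ _ (hm2 ⟨g, hg⟩)
    obtain ⟨c, hc⟩ := Ideal.mem_span_range_iff_exists_fun.1 hv
    exact ⟨c, Subtype.ext (by simpa using hc.symm)⟩
  obtain ⟨C, hC⟩ := exists_smul_eq_sum I b s hsub t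
  let y : Fin r → R := fun i => ∑ j, C i j * (b j : R)
  have hy : ∑ i, y i * (b i : R) = 0 := by
    have := congrArg (Subtype.val) (congrArg (mulI I) hC)
    rw [map_smul, hm, smul_zero, map_sum] at this
    simpa [y, mul_comm] using this.symm
  obtain ⟨z, hz, hz'⟩ := hbK (fun i => algebraMap R L (y i))
    (by simpa [map_sum] using congrArg (algebraMap R L) hy)
  obtain ⟨σ, hσ⟩ := IsLocalization.exist_integer_multiples_of_finite M.primeCompl
    (fun q : Fin r × Fin r => z q.1 q.2)
  choose w hw using hσ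
  have hw' : ∀ i j, algebraMap R L (w (i, j)) = algebraMap R L σ * z i j := fun i j => by
    rw [hw (i, j), Algebra.smul_def]
  let W : Fin r → Fin r → R := fun i j => w (i, j) - w (j, i)
  have hWy : ∀ i, ∃ c : M.primeCompl, (c : R) * (2 * σ * y i) = (c : R) * ∑ j, W i j * (b j : R) := by
    intro i
    refine (IsLocalization.eq_iff_exists M.primeCompl L).1 ?_
    simp only [W, map_sum, map_mul, map_sub, hw', map_ofNat]
    rw [hz' i, Finset.mul_sum]
    refine Finset.sum_congr rfl fun j _ => ?_
    rw [hz j i]; ring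
  choose c hc using hWy
  let e : R := (∏ i, (c i : R)) * (2 * σ)
  have he : e • ((s * s) • t) = ∑ i, ∑ j, ((∏ i, (c i : R)) * W i j) • (b i ⊗ₜ[R] b j) := by
    rw [hC, Finset.smul_sum]
    refine Finset.sum_congr rfl fun i _ => ?_
    have : e • ∑ j, C i j • b j = ∑ j, ((∏ i, (c i : R)) * W i j) • b j := by
      apply Subtype.ext
      rw [SetLike.val_smul]
      simp only [AddSubmonoidClass.coe_finsetSum, SetLike.val_smul, smul_eq_mul]
      calc e * ∑ j, C i j * (b j : R)
          = (∏ k ∈ Finset.univ.erase i, (c k : R)) * ((c i : R) * (2 * σ * y i)) := by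
            simp only [e, y, ← Finset.mul_prod_erase _ _ (Finset.mem_univ i)]; ring
        _ = _ := by
            rw [hc i, Finset.mul_sum, Finset.mul_sum]
            refine Finset.sum_congr rfl fun j _ => ?_
            rw [← Finset.mul_prod_erase _ (fun k => (c k : R)) (Finset.mem_univ i)]; ring
    rw [← TensorProduct.tmul_smul, this, TensorProduct.tmul_sum]
    simp only [TensorProduct.tmul_smul]
  have hanti : TensorProduct.comm R I I (e • ((s * s) • t)) = -(e • ((s * s) • t)) := by
    conv_rhs => rw [he, ← Finset.sum_neg_distrib, Finset.sum_congr rfl fun i _ => (Finset.sum_neg_distrib _).symm, Finset.sum_comm]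
    rw [he]
    simp only [map_sum, map_smul, TensorProduct.comm_tmul]
    refine Finset.sum_congr rfl fun i _ => Finset.sum_congr rfl fun j _ => ?_
    rw [eq_neg_iff_add_eq_zero, ← add_smul]
    convert zero_smul R (b j ⊗ₜ[R] b i)
    simp only [W]; ring
  rw [map_smul, map_smul, hs, eq_neg_iff_add_eq_zero, smul_smul, ← add_smul] at hanti
  have := key _ hanti
  rw [← two_mul] at this
  rcases hM.isPrime.mem_or_mem this with h | h
  · exact hM.ne_top (M.eq_top_of_isUnit_mem h h2)
  refine (show e * (s * s) ∈ M.primeCompl from ?_) h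
  have h2M : (2 : R) ∈ M.primeCompl := fun h => hM.ne_top (M.eq_top_of_isUnit_mem h h2)
  exact mul_mem (mul_mem (prod_mem fun i _ => (c i).2) (mul_mem h2M σ.2)) (mul_mem hsM hsM)

end Groth.Agent.DiagParityLib
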